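import Mathlib

/-!
Helper36: abstract glue for the Curtis–Tits recognition theorems (S3353, S3712): quotients of a perfect central
extension `S` of a simple group `C`.
-/

set_option autoImplicit false

namespace Cfsg.Agent.Helper36.CTGlue

universe u v w

variable {S : Type u} [Group S] {C : Type v} [Group C] {G : Type w} [Group G]

/-- in a perfect group, an element which commutes with everything modulo a central subgroup is central -/
theorem mem_center_of_commutator_mem (hperf : commutator S = ⊤) (K : Subgroup S)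
    (hK : K ≤ Subgroup.center S) (c : S) (hc : ∀ s : S, c * s * c⁻¹ * s⁻¹ ∈ K) : c ∈ Subgroup.center S := by
  -- the set of `s` commuting with `c` is a subgroup containing all commutators
  have hcomm : ∀ s : S, s ∈ Subgroup.centralizer ({c} : Set S) := by
    intro s
    have hs : s ∈ commutator S := by rw [hperf]; exact Subgroup.mem_top s
    rw [commutator_eq_closure] at hs
    refine Subgroup.closure_le (K := Subgroup.centralizer ({c} : Set S)) |>.mpr ?_ hs
    rintro x ⟨a, b, rfl⟩
    rw [SetLike.mem_coe, Subgroup.mem_centralizer_singleton_iff]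
    -- `c a c⁻¹ = z a`, `c b c⁻¹ = z' b` with `z z'` central
    have ha := hK (hc a)
    have hb := hK (hc b)
    rw [Subgroup.mem_center_iff] at ha hb
    set z := c * a * c⁻¹ * a⁻¹ with hz
    set z' := c * b * c⁻¹ * b⁻¹ with hz'
    have e1 : c * a = z * a * c := by rw [hz]; group
    have e2 : c * b = z' * b * c := by rw [hz']; group
    have e3 : c * a⁻¹ = z⁻¹ * a⁻¹ * c := by
      have : a⁻¹ * c = z * c * a⁻¹ := by
        have h1 := ha a⁻¹
        rw [hz]
        rw [hz] at h1
        calc a⁻¹ * c = a⁻¹ * (c * a * c⁻¹ * a⁻¹) * (a * c * a⁻¹) := by group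
          _ = (c * a * c⁻¹ * a⁻¹) * a⁻¹ * (a * c * a⁻¹) := by rw [h1]
          _ = c * a * c⁻¹ * a⁻¹ * c * a⁻¹ := by group
      have h2 : z⁻¹ * a⁻¹ * c = z⁻¹ * (a⁻¹ * c) := by group
      rw [h2, this]
      have h3 := ha c
      calc c * a⁻¹ = z⁻¹ * (z * c) * a⁻¹ := by group
        _ = z⁻¹ * (z * c * a⁻¹) := by group
    have e4 : c * b⁻¹ = z'⁻¹ * b⁻¹ * c := by
      have : b⁻¹ * c = z' * c * b⁻¹ := by
        have h1 := hb b⁻¹
        rw [hz']
        rw [hz'] at h1
        calc b⁻¹ * c = b⁻¹ * (c * b * c⁻¹ * b⁻¹) * (b * c * b⁻¹) := by group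
          _ = (c * b * c⁻¹ * b⁻¹) * b⁻¹ * (b * c * b⁻¹) := by rw [h1]
          _ = c * b * c⁻¹ * b⁻¹ * c * b⁻¹ := by group
      have h2 : z'⁻¹ * b⁻¹ * c = z'⁻¹ * (b⁻¹ * c) := by group
      rw [h2, this]
      calc c * b⁻¹ = z'⁻¹ * (z' * c) * b⁻¹ := by group
        _ = z'⁻¹ * (z' * c * b⁻¹) := by group
    -- now move `c` through `a b a⁻¹ b⁻¹`
    have hzc : ∀ g : S, g * z = z * g := ha
    have hzc' : ∀ g : S, g * z' = z' * g := hb
    have hzi : ∀ g : S, g * z⁻¹ = z⁻¹ * g := fun g => by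
      have := hzc g
      calc g * z⁻¹ = z⁻¹ * (z * g) * z⁻¹ := by group
        _ = z⁻¹ * (g * z) * z⁻¹ := by rw [this]
        _ = z⁻¹ * g := by group
    have hzi' : ∀ g : S, g * z'⁻¹ = z'⁻¹ * g := fun g => by
      have := hzc' g
      calc g * z'⁻¹ = z'⁻¹ * (z' * g) * z'⁻¹ := by group
        _ = z'⁻¹ * (g * z') * z'⁻¹ := by rw [this]
        _ = z'⁻¹ * g := by group
    rw [commutatorElement_def]
    symm
    calc c * (a * b * a⁻¹ * b⁻¹) = (c * a) * b * a⁻¹ * b⁻¹ := by group
      _ = z * a * (c * b) * a⁻¹ * b⁻¹ := by rw [e1]; group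
      _ = z * a * (z' * b * c) * a⁻¹ * b⁻¹ := by rw [e2]
      _ = z * a * z' * b * (c * a⁻¹) * b⁻¹ := by group
      _ = z * a * z' * b * (z⁻¹ * a⁻¹ * c) * b⁻¹ := by rw [e3]
      _ = z * a * z' * b * z⁻¹ * a⁻¹ * (c * b⁻¹) := by group
      _ = z * a * z' * b * z⁻¹ * a⁻¹ * (z'⁻¹ * b⁻¹ * c) := by rw [e4]
      _ = z * (a * z') * (b * z⁻¹) * (a⁻¹ * z'⁻¹) * b⁻¹ * c := by group
      _ = z * (z' * a) * (z⁻¹ * b) * (z'⁻¹ * a⁻¹) * b⁻¹ * c := by rw [hzc', hzi, hzi']
      _ = z * z' * (a * z⁻¹) * (b * z'⁻¹) * a⁻¹ * b⁻¹ * c := by group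
      _ = z * z' * (z⁻¹ * a) * (z'⁻¹ * b) * a⁻¹ * b⁻¹ * c := by rw [hzi, hzi']
      _ = z * (z' * z⁻¹) * (a * z'⁻¹) * b * a⁻¹ * b⁻¹ * c := by group
      _ = z * (z⁻¹ * z') * (z'⁻¹ * a) * b * a⁻¹ * b⁻¹ * c := by rw [hzi z', hzi']
      _ = a * b * a⁻¹ * b⁻¹ * c := by group
  rw [Subgroup.mem_center_iff]
  intro s
  have := hcomm s
  rw [Subgroup.mem_centralizer_singleton_iff] at this
  exact this

/-- the centre of a simple non-abelian group is trivial -/
theorem center_eq_bot [IsSimpleGroup G] (hna : ∃ a b : G, a * b ≠ b * a) : Subgroup.center G = ⊥ := by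
  rcases (inferInstance : (Subgroup.center G).Normal).eq_bot_or_eq_top with h | h
  · exact h
  · exfalso
    obtain ⟨a, b, hab⟩ := hna
    have ha : a ∈ Subgroup.center G := by rw [h]; exact Subgroup.mem_top a
    rw [Subgroup.mem_center_iff] at ha
    exact hab (ha b).symm

/-- the image of a central subgroup under a surjective homomorphism is central -/
theorem map_le_center (ρ : S →* G) (hρ : Function.Surjective ρ) (K : Subgroup S) (hK : K ≤ Subgroup.center S) :
    K.map ρ ≤ Subgroup.center G := by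
  rintro _ ⟨k, hk, rfl⟩
  rw [Subgroup.mem_center_iff]
  intro g
  obtain ⟨s, rfl⟩ := hρ g
  have := (Subgroup.mem_center_iff.mp (hK hk)) s
  rw [← map_mul, ← map_mul, this]

/-- a simple non-abelian quotient of a perfect central extension of a simple group `C` is isomorphic to `C` -/
theorem iso_of_surjective (π : S →* C) (hπ : Function.Surjective π)
    (hker : π.ker ≤ Subgroup.center S) [IsSimpleGroup C] [IsSimpleGroup G] (hna : ∃ a b : G, a * b ≠ b * a)
    (ρ : S →* G) (hρ : Function.Surjective ρ) : Nonempty (G ≃* C) := by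
  -- `ker π ≤ ker ρ`
  have h1 : π.ker ≤ ρ.ker := by
    intro k hk
    have h2 : ρ k ∈ Subgroup.center G := map_le_center ρ hρ π.ker hker ⟨k, hk, rfl⟩
    rw [center_eq_bot hna, Subgroup.mem_bot] at h2
    exact h2
  -- `ker ρ ≤ ker π`
  have h2 : ρ.ker ≤ π.ker := by
    have hnor : (ρ.ker.map π).Normal := Subgroup.Normal.map inferInstance π hπ
    rcases hnor.eq_bot_or_eq_top with h | h
    · intro n hn
      have : π n ∈ ρ.ker.map π := ⟨n, hn, rfl⟩
      rw [h, Subgroup.mem_bot] at this
      exact this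
    · exfalso
      -- every element of `S` is `n k` with `n ∈ ker ρ`, `k ∈ ker π` central, so `G` is abelian
      have hdec : ∀ s : S, ∃ n ∈ ρ.ker, ∃ k ∈ π.ker, s = n * k := by
        intro s
        have : π s ∈ ρ.ker.map π := by rw [h]; exact Subgroup.mem_top _
        obtain ⟨n, hn, e⟩ := this
        refine ⟨n, hn, n⁻¹ * s, ?_, by group⟩
        rw [MonoidHom.mem_ker, map_mul, map_inv, e]
        group
      obtain ⟨a, b, hab⟩ := hna
      obtain ⟨s, rfl⟩ := hρ a
      obtain ⟨s', rfl⟩ := hρ b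
      obtain ⟨n, hn, k, hk, rfl⟩ := hdec s
      obtain ⟨n', hn', k', hk', rfl⟩ := hdec s'
      apply hab
      have e1 : ρ n = 1 := hn
      have e2 : ρ n' = 1 := hn'
      have c1 := Subgroup.mem_center_iff.mp (hker hk)
      rw [map_mul, map_mul, e1, e2, one_mul, one_mul, ← map_mul, ← map_mul, c1 k']
  have heq : ρ.ker = π.ker := le_antisymm h2 h1
  exact ⟨(QuotientGroup.quotientKerEquivOfSurjective ρ hρ).symm.trans
    ((QuotientGroup.quotientMulEquivOfEq heq).trans (QuotientGroup.quotientKerEquivOfSurjective π hπ))⟩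

/-- the central quotients: for a perfect central extension `S` of `C` and a quotient `G` of `S`, the group
`G ⧸ Z(G)` is a quotient of `C ⧸ Z(C)` -/
theorem quot_center_of_surjective (hperf : commutator S = ⊤) (π : S →* C) (hπ : Function.Surjective π)
    (hker : π.ker ≤ Subgroup.center S) (ρ : S →* G) (hρ : Function.Surjective ρ) :
    ∃ f : (C ⧸ Subgroup.center C) →* (G ⧸ Subgroup.center G), Function.Surjective f := by
  set h : S →* C ⧸ Subgroup.center C := (QuotientGroup.mk' (Subgroup.center C)).comp π with hh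
  set g : S →* G ⧸ Subgroup.center G := (QuotientGroup.mk' (Subgroup.center G)).comp ρ with hg
  have hsurj : Function.Surjective h := (QuotientGroup.mk'_surjective _).comp hπ
  have gsurj : Function.Surjective g := (QuotientGroup.mk'_surjective _).comp hρ
  have hkk : h.ker ≤ g.ker := by
    intro c hc
    have hc' : π c ∈ Subgroup.center C := by
      rw [MonoidHom.mem_ker, hh, MonoidHom.comp_apply, QuotientGroup.mk'_apply, QuotientGroup.eq_one_iff] at hc
      exact hc
    have hcen : c ∈ Subgroup.center S := by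
      apply mem_center_of_commutator_mem hperf π.ker hker c
      intro s
      rw [MonoidHom.mem_ker, map_mul, map_mul, map_mul, map_inv, map_inv]
      have := Subgroup.mem_center_iff.mp hc' (π s)
      rw [← this]
      group
    have : ρ c ∈ Subgroup.center G := map_le_center ρ hρ (Subgroup.center S) le_rfl ⟨c, hcen, rfl⟩
    rw [MonoidHom.mem_ker, hg, MonoidHom.comp_apply, QuotientGroup.mk'_apply, QuotientGroup.eq_one_iff]
    exact this
  refine ⟨(QuotientGroup.lift h.ker g hkk).comp
    (QuotientGroup.quotientKerEquivOfSurjective h hsurj).symm.toMonoidHom, ?_⟩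
  intro y
  obtain ⟨s, rfl⟩ := gsurj y
  refine ⟨h s, ?_⟩
  rw [MonoidHom.comp_apply, MulEquiv.coe_toMonoidHom]
  have : (QuotientGroup.quotientKerEquivOfSurjective h hsurj).symm (h s) = (s : S ⧸ h.ker) := by
    rw [MulEquiv.symm_apply_eq]
    rfl
  rw [this]
  rfl

end Cfsg.Agent.Helper36.CTGlue
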