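import Cfsg.Agent.Helper36.CTGlue.Abs
import Cfsg.Agent.S1054
import Cfsg.Agent.S2395
import Cfsg.Agent.S2396
import Cfsg.Agent.S2397

/-!
Helper36: glue between the Steinberg group `D.SteinbergGroup F` (the presented group with the Steinberg relations,
the target of the Curtis–Tits presentation theorem S1164) and the Chevalley group `D.group F`, for the recognition
theorems S3353 and S3712:

* `perfect_steinbergGroup` : `D.SteinbergGroup F` is perfect (finite field `F`);
* `exists_central_hom` : a surjection `D.SteinbergGroup F →* D.group F` with central kernel sending `stGen r t` to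
  `x_r(t)`;
* `iso_chev_of_surjective` : a simple non-abelian quotient of `D.SteinbergGroup F` is isomorphic to `D.group F`;
* `quot_center_of_surjective` : for any quotient `G` of `D.SteinbergGroup F`, `G ⧸ Z(G)` is a quotient of
  `D.group F ⧸ Z`.
-/

set_option autoImplicit false

namespace Cfsg.Agent.Helper36.CTGlue

open Cfsg.Lie

theorem mem_seven {D : ChevalleyDatum} (hD : D ∈ [chevD4, chevF4, chevE6, chevE7, chevE8]) :
    D ∈ [chevG2, chevB2, chevD4, chevF4, chevE6, chevE7, chevE8] := by
  simp only [List.mem_cons, List.mem_nil_iff, or_false] at hD ⊢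
  tauto

theorem not_mem_B2G2 {D : ChevalleyDatum} (hD : D ∈ [chevD4, chevF4, chevE6, chevE7, chevE8]) :
    ¬ D ∈ [chevB2, chevG2] := by
  simp only [List.mem_cons, List.mem_nil_iff, or_false] at hD ⊢
  have hrank : D.rank ≠ 2 := by
    rcases hD with rfl | rfl | rfl | rfl | rfl <;> decide
  rintro (rfl | rfl) <;> exact hrank rfl

/-- the Steinberg group over a finite field is perfect -/
theorem perfect_steinbergGroup {F : Type*} [Field F] [Finite F] (D : ChevalleyDatum)
    (hD : D ∈ [chevD4, chevF4, chevE6, chevE7, chevE8]) : commutator (D.SteinbergGroup F) = ⊤ := by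
  have hK : D ∈ [chevB2, chevG2] → ∃ x : F, x ≠ 0 ∧ x ≠ 1 := fun h => absurd h (not_mem_B2G2 hD)
  obtain ⟨e, -⟩ := Cfsg.Agent.S2397.result (K := F) D (mem_seven hD) hK
  have hperf := Cfsg.Agent.S2395.result (K := F) D (mem_seven hD) hK
  have := Subgroup.map_commutator (⊤ : Subgroup (D.SteinbergCover F)) ⊤ e.toMonoidHom
  rw [commutator_def, ← Subgroup.map_top_of_surjective e.toMonoidHom e.surjective, ← this, ← commutator_def,
    hperf]

/-- the canonical central surjection from the Steinberg group to the Chevalley group -/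
theorem exists_central_hom {F : Type*} [Field F] [Finite F] (D : ChevalleyDatum)
    (hD : D ∈ [chevD4, chevF4, chevE6, chevE7, chevE8]) :
    ∃ π : D.SteinbergGroup F →* ↥(D.group F), Function.Surjective π ∧
      π.ker ≤ Subgroup.center (D.SteinbergGroup F) ∧
      ∀ (r : ℕ) (t : F), r < D.nroots →
        ((π (D.stGen F r t) : GL D.Idx F) : Matrix D.Idx D.Idx F) = D.x F r t := by
  have hK : D ∈ [chevB2, chevG2] → ∃ x : F, x ≠ 0 ∧ x ≠ 1 := fun h => absurd h (not_mem_B2G2 hD)
  obtain ⟨e, he⟩ := Cfsg.Agent.S2397.result (K := F) D (mem_seven hD) hK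
  obtain ⟨θ, hθ, hker, hx⟩ := Cfsg.Agent.S2396.result (K := F) D (mem_seven hD) hK
  refine ⟨θ.comp e.symm.toMonoidHom, hθ.comp e.symm.surjective, ?_, ?_⟩
  · intro k hk
    have hk' : e.symm k ∈ θ.ker := hk
    have hc := Subgroup.mem_center_iff.mp (hker hk')
    rw [Subgroup.mem_center_iff]
    intro g
    have := hc (e.symm g)
    rw [← map_mul, ← map_mul] at this
    exact e.symm.injective this
  · intro r t hr
    have : e.symm (D.stGen F r t) = D.scGen F r t := by
      rw [MulEquiv.symm_apply_eq, he]
    rw [MonoidHom.comp_apply, MulEquiv.coe_toMonoidHom, this]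
    exact hx r t hr

/-- **Glue for S3353.** A simple non-abelian quotient of the Steinberg group of type `D₄, F₄, E₆, E₇, E₈` over a
finite field is the Chevalley group. -/
theorem iso_chev_of_surjective {F : Type*} [Field F] [Finite F] (D : ChevalleyDatum)
    (hD : D ∈ [chevD4, chevF4, chevE6, chevE7, chevE8]) {G : Type*} [Group G] [IsSimpleGroup G]
    (hna : ∃ a b : G, a * b ≠ b * a) (ρ : D.SteinbergGroup F →* G) (hρ : Function.Surjective ρ) :
    Nonempty (G ≃* ↥(D.group F)) := by
  obtain ⟨π, hπ, hker, -⟩ := exists_central_hom (F := F) D hD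
  haveI : IsSimpleGroup ↥(D.group F) := (Cfsg.Agent.S1054.result (F := F) D hD).1
  exact iso_of_surjective π hπ hker hna ρ hρ

/-- **Glue for S3712.** For every quotient `G` of the Steinberg group, `G ⧸ Z(G)` is a quotient of the central
quotient of the Chevalley group. -/
theorem quot_center_chev_of_surjective {F : Type*} [Field F] [Finite F] (D : ChevalleyDatum)
    (hD : D ∈ [chevD4, chevF4, chevE6, chevE7, chevE8]) {G : Type*} [Group G]
    (ρ : D.SteinbergGroup F →* G) (hρ : Function.Surjective ρ) :
    ∃ f : (↥(D.group F) ⧸ Subgroup.center ↥(D.group F)) →* (G ⧸ Subgroup.center G), Function.Surjective f := by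
  obtain ⟨π, hπ, hker, -⟩ := exists_central_hom (F := F) D hD
  exact quot_center_of_surjective (perfect_steinbergGroup (F := F) D hD) π hπ hker ρ hρ

end Cfsg.Agent.Helper36.CTGlue
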